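import Groth.Agent.Lib.CAlgLow.TorNil
import Groth.Agent.Lib.TorBal27.Balance
import Groth.Agent.Lib.FlatCx.Cochain
import Mathlib.LinearAlgebra.TensorProduct.Finiteness
import Mathlib.RingTheory.Localization.Away.Basic
import Mathlib.RingTheory.Localization.BaseChange
import Mathlib.Algebra.Module.LocalizedModule.Basic

/-!
# Flatness from flatness on an open cover of the complement and vanishing of higher `Tor`
-/

set_option autoImplicit false

universe u

open CategoryTheory CategoryTheory.Limits TensorProduct
open Groth.Agent.CAlgLow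

namespace Groth.Agent.TorCoverH1

variable {R : Type u} [CommRing R]

theorem torVanish_congr {M F : Type u} [AddCommGroup M] [Module R M] [AddCommGroup F]
    [Module R F] {π : F →ₗ[R] M} {N N' : Type u} [AddCommGroup N] [Module R N] [AddCommGroup N'] [Module R N']
    (e : N ≃ₗ[R] N') (h : TorVanish π N') : TorVanish π N := by
  intro a b hab
  apply (e.rTensor (LinearMap.ker π)).injective
  refine h ?_
  have hab' := congrArg (e.toLinearMap.rTensor F) hab
  rw [← LinearMap.comp_apply, ← LinearMap.comp_apply (e.toLinearMap.rTensor F), LinearMap.rTensor_comp_lTensor,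
    ← LinearMap.lTensor_comp_rTensor] at hab'
  exact hab'

section Algebra

variable {M F : Type u} [AddCommGroup M] [Module R M] [AddCommGroup F] [Module R F] [Module.Flat R F]

theorem torVanish_of_flat_baseChange {π : F →ₗ[R] M} (hπ : Function.Surjective π) (B : Type u) [CommRing B] [Algebra R B]
    [Module.Flat B (B ⊗[R] M)] (hB : TorVanish π B) (N : Type u) [AddCommGroup N] [Module R N] [Module B N]
    [IsScalarTower R B N] : TorVanish π N := by
  have hui := lTensor_injective_of_ui (ui_of_flat_coker (f := (LinearMap.ker π).subtype.baseChange B)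
    (g := π.baseChange B) (show Function.Injective ((LinearMap.ker π).subtype.baseChange B) from hB)
    (lTensor_exact B (LinearMap.exact_subtype_ker_map π) hπ) (LinearMap.lTensor_surjective _ hπ)) N
  let c := AlgebraTensorModule.cancelBaseChange R B B N (LinearMap.ker π)
  let c' := AlgebraTensorModule.cancelBaseChange R B B N F
  have e : ∀ z, (LinearMap.ker π).subtype.lTensor N (c z) =
      c' (((LinearMap.ker π).subtype.baseChange B).lTensor N z) := by
    intro z
    induction z with
    | zero => simp
    | add a b ha hb => simp only [map_add, ha, hb]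
    | tmul n w =>
      induction w with
      | zero => simp
      | add a b ha hb => simp only [tmul_add, map_add, ha, hb]
      | tmul r k => simp [c, c']
  intro a b hab
  obtain ⟨a, rfl⟩ := c.surjective a
  obtain ⟨b, rfl⟩ := c.surjective b
  rw [e, e] at hab
  rw [hui (c'.injective hab)]

theorem flat_baseChange_ker {π : F →ₗ[R] M} (hπ : Function.Surjective π) (B : Type u) [CommRing B] [Algebra R B]
    [Module.Flat B (B ⊗[R] M)] (hB : TorVanish π B) : Module.Flat B (B ⊗[R] LinearMap.ker π) := by
  let f := (LinearMap.ker π).subtype.baseChange B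
  have hex : Function.Exact f (π.baseChange B) := lTensor_exact B (LinearMap.exact_subtype_ker_map π) hπ
  haveI : Module.Flat B (LinearMap.ker (π.baseChange B)) :=
    FlatCxLib.flat_ker_of_surjective (f := π.baseChange B) (LinearMap.lTensor_surjective _ hπ)
  exact Module.Flat.of_linearEquiv
    ((LinearEquiv.ofInjective f hB).trans (LinearEquiv.ofEq _ _ hex.linearMap_ker_eq.symm))

/-- Passing to the submodule of a sequence `0 → A → B → C → 0` raises the degree by one. -/
theorem torVanish_of_sub {F' : Type u} [AddCommGroup F'] [Module R F'] [Module.Flat R F'] {π : F →ₗ[R] M}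
    {π' : F' →ₗ[R] LinearMap.ker π} (hπ' : Function.Surjective π') {A B : Type u} [AddCommGroup A] [Module R A]
    [AddCommGroup B] [Module R B] {i : A →ₗ[R] B} (hi : Function.Injective i) (hB : TorVanish π B)
    (hC : TorVanish π' (B ⧸ LinearMap.range i)) : TorVanish π A := by
  rw [TorVanish, injective_iff_map_eq_zero]
  intro z hz
  refine rTensor_injective_of_torVanish hπ' hi hC ?_
  rw [map_zero]
  refine hB ?_
  rw [map_zero, ← LinearMap.comp_apply, LinearMap.lTensor_comp_rTensor, ← LinearMap.rTensor_comp_lTensor,
    LinearMap.comp_apply, hz, map_zero]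

theorem torVanish_of_torsion {π : F →ₗ[R] M} {I : Ideal R}
    (base : ∀ (N : Type u) [AddCommGroup N] [Module R N], Module.IsTorsionBySet R N I → TorVanish π N) (k : ℕ) :
    ∀ (N : Type u) [AddCommGroup N] [Module R N], Module.IsTorsionBySet R N (I ^ k : Ideal R) → TorVanish π N := by
  induction k with
  | zero =>
    intro N _ _ hN
    exact base N fun x a => @hN x ⟨a.1, by simp⟩
  | succ n ih =>
    intro N _ _ hN
    let A : Submodule R N := I • ⊤
    refine torVanish_extension (i := A.subtype) (p := A.mkQ) A.injective_subtype (LinearMap.exact_subtype_mkQ A)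
      A.mkQ_surjective (ih A fun x a => ?_) (base _ (fun x a => ?_))
    · refine Subtype.ext ?_
      change a.1 • x.1 = 0
      have hle : (I ^ n) • A ≤ (⊥ : Submodule R N) := by
        rw [← Submodule.mul_smul, ← pow_succ, Submodule.smul_le]
        exact fun r hr m _ => (Submodule.mem_bot R).2 (@hN m ⟨r, hr⟩)
      exact (Submodule.mem_bot R).1 (hle (Submodule.smul_mem_smul a.2 x.2))
    · obtain ⟨y, rfl⟩ := A.mkQ_surjective x
      exact (Submodule.Quotient.mk_eq_zero A).2 (Submodule.smul_mem_smul a.2 Submodule.mem_top)

/-- Modules every element of which is killed by a power of each generator. -/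
theorem torVanish_of_locally_torsion {π : F →ₗ[R] M} {r : ℕ} (f : Fin r → R)
    (base : ∀ (N : Type u) [AddCommGroup N] [Module R N],
      Module.IsTorsionBySet R N (Ideal.span (Set.range f)) → TorVanish π N)
    (N : Type u) [AddCommGroup N] [Module R N] (hN : ∀ i, ∀ x : N, ∃ k : ℕ, f i ^ k • x = 0) : TorVanish π N := by
  classical
  rw [TorVanish, injective_iff_map_eq_zero]
  intro z hz
  obtain ⟨N₀, hN₀, hz₀⟩ := TensorProduct.exists_finite_submodule_left_of_setFinite {z} (Set.finite_singleton z)
  obtain ⟨z₀, rfl⟩ := hz₀ rfl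
  have h1 : (LinearMap.ker π).subtype.lTensor N₀ z₀ = 0 := by
    refine Module.Flat.rTensor_preserves_injective_linearMap (M := F) N₀.subtype N₀.injective_subtype ?_
    rw [map_zero, ← LinearMap.comp_apply, LinearMap.rTensor_comp_lTensor, ← LinearMap.lTensor_comp_rTensor,
      LinearMap.comp_apply, hz]
  have hrad : Ideal.span (Set.range f) ≤ (Module.annihilator R N₀).radical := by
    rw [Ideal.span_le]
    rintro _ ⟨i, rfl⟩
    obtain ⟨s, hs⟩ := (Module.finite_def.1 hN₀ : (⊤ : Submodule R N₀).FG)
    choose k hk using fun x : N₀ => hN i x.1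
    refine ⟨s.sup k, ?_⟩
    rw [Module.mem_annihilator]
    intro x
    have hx : x ∈ Submodule.span R (s : Set N₀) := hs ▸ Submodule.mem_top
    induction hx using Submodule.span_induction with
    | zero => simp
    | add a b _ _ ha hb => rw [smul_add, ha, hb, add_zero]
    | smul c a _ ha => rw [smul_comm, ha, smul_zero]
    | mem a ha =>
      refine Subtype.ext ?_
      show f i ^ s.sup k • a.1 = 0
      rw [← Nat.sub_add_cancel (Finset.le_sup ha : k a ≤ s.sup k), pow_add, mul_smul, hk a, smul_zero]
  obtain ⟨k, hk⟩ := Ideal.exists_pow_le_of_le_radical_of_fg hrad (Submodule.fg_span (Set.finite_range f))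
  have h2 := torVanish_of_torsion base k N₀ fun x a => Module.mem_annihilator.1 (hk a.2) x
  rw [h2 (a₁ := z₀) (a₂ := 0) (by rw [h1, map_zero]), map_zero]

end Algebra

noncomputable section

open TorBal27

variable (M : ModuleCat.{u} R)

/-- The vanishing of `Tor_{n+1}(N, M)`. -/
def V (n : ℕ) (N : Type u) [AddCommGroup N] [Module R N] : Prop :=
  TorVanish (ev ((Kp R n).obj M)) N

theorem V_of_isZero_tor (n : ℕ) (N : ModuleCat.{u} R)
    (h : IsZero (((Tor (ModuleCat.{u} R) (n + 1)).obj M).obj N)) : V M n N := by
  obtain ⟨e⟩ := nonempty_tor_iso_flip (R := R) (n + 1)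
  have h' : IsZero (((Tor (ModuleCat.{u} R) (n + 1)).obj N).obj M) := h.of_iso ((e.app N).app M)
  haveI := ModuleCat.isZero_iff_subsingleton.1 (h'.of_iso (torIso (n + 1) N M).symm)
  show Function.Injective ((inc ((Kp R n).obj M)).lTensor N)
  rw [injective_iff_map_eq_zero]
  intro y hy
  obtain ⟨η, rfl⟩ := (range_phi_succ N M n).ge hy
  rw [Subsingleton.elim η 0, map_zero]
  rfl

theorem flat_baseChange_syzygy (B : Type u) [CommRing B] [Algebra R B] [Module.Flat B (B ⊗[R] M)] :
    ∀ n, (∀ j < n, V M j B) → Module.Flat B (B ⊗[R] (Kp R n).obj M) := by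
  intro n
  induction n with
  | zero => exact fun _ => ‹_›
  | succ n ih =>
    intro h
    haveI := ih fun j hj => h j (Nat.lt_succ_of_lt hj)
    exact flat_baseChange_ker (ev_surjective _) B (h n (Nat.lt_succ_self n))

theorem V_of_algebra (B : Type u) [CommRing B] [Algebra R B] [Module.Flat B (B ⊗[R] M)] (n : ℕ)
    (h : ∀ j ≤ n, V M j B) (N : Type u) [AddCommGroup N] [Module R N] [Module B N] [IsScalarTower R B N] :
    V M n N := by
  haveI := flat_baseChange_syzygy M B n fun j hj => h j hj.le
  exact torVanish_of_flat_baseChange (ev_surjective _) B (h n le_rfl) N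

theorem V_zero_all {r : ℕ} (f : Fin r → R)
    (hloc : ∀ i, Module.Flat (Localization.Away (f i)) (Localization.Away (f i) ⊗[R] M))
    (hmod : Module.Flat (R ⧸ Ideal.span (Set.range f)) ((R ⧸ Ideal.span (Set.range f)) ⊗[R] M))
    (htor : ∀ n < r + 1, V M n (R ⧸ Ideal.span (Set.range f))) :
    ∀ (N : Type u) [AddCommGroup N] [Module R N], V M 0 N := by
  have base : ∀ n < r + 1, ∀ (N : Type u) [AddCommGroup N] [Module R N],
      Module.IsTorsionBySet R N (Ideal.span (Set.range f)) → V M n N := by
    intro n hn N _ _ hN
    letI := hN.module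
    haveI : IsScalarTower R (R ⧸ Ideal.span (Set.range f)) N := IsScalarTower.of_algebraMap_smul fun _ _ => rfl
    haveI := hmod
    exact V_of_algebra M (R ⧸ Ideal.span (Set.range f)) n (fun j hj => htor j (lt_of_le_of_lt hj hn)) N
  suffices key : ∀ d s : ℕ, s + d = r → ∀ n < s + 1, ∀ (N : Type u) [AddCommGroup N] [Module R N],
      (∀ i : Fin r, (i : ℕ) < s → ∀ x : N, ∃ k : ℕ, f i ^ k • x = 0) → V M n N by
    intro N _ _
    exact key r 0 (Nat.zero_add r) 0 Nat.one_pos N fun i hi => absurd hi (Nat.not_lt_zero _)
  intro d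
  induction d with
  | zero =>
    intro s hs n hn N _ _ hN
    exact torVanish_of_locally_torsion f (base n (by omega)) N fun i => hN i (by omega)
  | succ d ih =>
    intro s hs n hn N _ _ hN
    let i₀ : Fin r := ⟨s, by omega⟩
    let S := Submonoid.powers (f i₀)
    let g := LocalizedModule.mkLinearMap S N
    have hT : V M n (LinearMap.ker g) := by
      refine ih (s + 1) (by omega) n (by omega) _ fun i hi x => ?_
      rcases Nat.lt_succ_iff_lt_or_eq.1 hi with h | h
      · obtain ⟨k, hk⟩ := hN i h x.1
        exact ⟨k, Subtype.ext hk⟩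
      · obtain rfl : i = i₀ := Fin.ext h
        obtain ⟨⟨c, k, rfl⟩, hc⟩ := (IsLocalizedModule.eq_zero_iff S g).1 (LinearMap.mem_ker.1 x.2)
        exact ⟨k, Subtype.ext hc⟩
    have hQ : V M (n + 1) (LocalizedModule S N ⧸ LinearMap.range (LinearMap.range g).subtype) := by
      refine ih (s + 1) (by omega) (n + 1) (by omega) _ fun i hi x => ?_
      obtain ⟨y, rfl⟩ := Submodule.Quotient.mk_surjective _ x
      induction y using LocalizedModule.induction_on with
      | h m c =>
        rcases Nat.lt_succ_iff_lt_or_eq.1 hi with h | h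
        · obtain ⟨k, hk⟩ := hN i h m
          exact ⟨k, by rw [← Submodule.Quotient.mk_smul, LocalizedModule.smul'_mk, hk, LocalizedModule.zero_mk]; rfl⟩
        · obtain rfl : i = i₀ := Fin.ext h
          obtain ⟨k, hk⟩ := c.2
          refine ⟨k, ?_⟩
          rw [← Submodule.Quotient.mk_smul, Submodule.Quotient.mk_eq_zero, Submodule.range_subtype]
          refine ⟨m, ?_⟩
          change LocalizedModule.mk m 1 = f i₀ ^ k • LocalizedModule.mk m c
          rw [show f i₀ ^ k = (c : R) from hk, LocalizedModule.smul'_mk]
          exact (LocalizedModule.mk_cancel c m).symm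
    haveI := hloc i₀
    have hNf : V M n (LocalizedModule S N) :=
      V_of_algebra M (Localization.Away (f i₀)) n
        (fun j _ => Module.Flat.lTensor_preserves_injective_linearMap _ (Submodule.injective_subtype _)) _
    have hsub : V M n (LinearMap.range g) :=
      torVanish_of_sub (π' := ev ((Kp R (n + 1)).obj M)) (ev_surjective _)
        (LinearMap.range g).injective_subtype hNf hQ
    exact torVanish_extension (i := (LinearMap.ker g).subtype) (p := g.rangeRestrict)
      (LinearMap.ker g).injective_subtype
      (LinearMap.exact_iff.2 (by rw [Submodule.range_subtype, LinearMap.ker_rangeRestrict]))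
      g.surjective_rangeRestrict hT hsub

theorem flat_of_cover {r : ℕ} (f : Fin r → R)
    (hloc : ∀ i, Module.Flat (Localization.Away (f i)) (Localization.Away (f i) ⊗[R] M))
    (hmod : Module.Flat (R ⧸ Ideal.span (Set.range f)) ((R ⧸ Ideal.span (Set.range f)) ⊗[R] M))
    (htor : ∀ n < r + 1, V M n (R ⧸ Ideal.span (Set.range f))) : Module.Flat R M :=
  Module.Flat.iff_rTensor_injective'.2 fun J =>
    rTensor_injective_of_torVanish (ev_surjective ((Kp R 0).obj M)) J.injective_subtype
      (V_zero_all M f hloc hmod htor _)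

end

end Groth.Agent.TorCoverH1
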